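import Cfsg.Agent.Lib.Solvable.WielandtOrder
import Mathlib.GroupTheory.Schreier

/-!
An elementary abelian group of order `q ^ 3` acting coprimely: if the derived subgroups of the
centralisers of the non-identity elements have bounded order, so has the derived subgroup.
-/

set_option autoImplicit false

namespace Cfsg.Agent.RankThreeDerived

open Subgroup
open scoped Pointwise commutatorElement

variable {Γ : Type*} [Group Γ] [Finite Γ]

/-- The derived subgroup of `C_K(a)`. -/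
def der (K : Subgroup Γ) (a : Γ) : Subgroup Γ := ⁅K ⊓ centralizer {a}, K ⊓ centralizer {a}⁆

theorem der_le (K : Subgroup Γ) (a : Γ) : der K a ≤ K ⊓ centralizer {a} := by
  rw [der, commutator_le]
  intro x hx y hy
  rw [commutatorElement_def]
  exact mul_mem (mul_mem (mul_mem hx hy) (inv_mem hx)) (inv_mem hy)

theorem commutator_mem_der {K : Subgroup Γ} {b x y : Γ} (hx : x ∈ K) (hy : y ∈ K)
    (hxb : b * x = x * b) (hyb : b * y = y * b) : ⁅x, y⁆ ∈ der K b :=
  commutator_mem_commutator ⟨hx, mem_centralizer_singleton_iff.2 hxb.symm⟩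
    ⟨hy, mem_centralizer_singleton_iff.2 hyb.symm⟩

theorem centralizer_zpowers (x : Γ) :
    centralizer ((zpowers x : Subgroup Γ) : Set Γ) = centralizer {x} := by
  ext g
  rw [mem_centralizer_singleton_iff]
  exact ⟨fun h => (mem_centralizer_iff.1 h x (mem_zpowers x)).symm, fun h =>
    mem_centralizer_iff.2 fun y hy => by
      obtain ⟨k, rfl⟩ := mem_zpowers_iff.1 hy
      exact ((Commute.zpow_right (show Commute g x from h) k).eq).symm⟩

variable {A K : Subgroup Γ} {q m : ℕ} [Fact q.Prime]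

/-- Two subgroups of order `q ^ 2` of a group of order `q ^ 3` meet non-trivially. -/
theorem exists_common {B₁ B₂ : Subgroup Γ} (hA : Nat.card A = q ^ 3) (h1 : B₁ ≤ A) (h2 : B₂ ≤ A)
    (hc1 : Nat.card B₁ = q ^ 2) (hc2 : Nat.card B₂ = q ^ 2) :
    ∃ b ∈ A, b ≠ 1 ∧ b ∈ B₁ ∧ b ∈ B₂ := by
  by_contra hne
  push Not at hne
  have hbot : B₁ ⊓ B₂ = ⊥ := by
    rw [eq_bot_iff_forall]
    exact fun x hx => by_contra fun hx1 => hne x (h1 hx.1) hx1 hx.1 hx.2
  have h := WielandtOrder.card_mul_set B₁ B₂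
  rw [hbot, Subgroup.card_bot, mul_one, hc1, hc2] at h
  have hle : Nat.card ↥((B₁ : Set Γ) * (B₂ : Set Γ)) ≤ Nat.card A := by
    refine Nat.card_mono (Set.toFinite _) ?_
    rintro _ ⟨x, hx, y, hy, rfl⟩
    exact mul_mem (h1 hx) (h2 hy)
  rw [h, hA, ← pow_add] at hle
  exact absurd ((Nat.pow_le_pow_iff_right (Fact.out : q.Prime).one_lt).1 hle) (by norm_num)

theorem elementary_of_le (hA : IsElementaryAbelian q A) {B : Subgroup Γ} (h : B ≤ A) :
    IsElementaryAbelian q B :=
  ⟨⟨⟨fun x y => Subtype.ext (congrArg Subtype.val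
    (hA.1.is_comm.comm ⟨x.1, h x.2⟩ ⟨y.1, h y.2⟩) :)⟩⟩, fun b hb => hA.2 b (h hb)⟩

theorem zpowers_inf_eq_bot (hA : IsElementaryAbelian q A) {a : Γ} (ha : a ∈ A) (ha1 : a ≠ 1)
    {H : Subgroup Γ} (haH : a ∉ H) : zpowers a ⊓ H = ⊥ := by
  have hc : Nat.card (zpowers a) = q := by rw [Nat.card_zpowers, orderOf_eq_prime (hA.2 a ha) ha1]
  rcases (Nat.dvd_prime (Fact.out : q.Prime)).1
    (hc ▸ card_dvd_of_le (inf_le_left : zpowers a ⊓ H ≤ zpowers a)) with h | h
  · exact Subgroup.eq_bot_of_card_eq _ h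
  · have heq := eq_of_le_of_card_ge (inf_le_left : zpowers a ⊓ H ≤ zpowers a) (by rw [hc, h])
    exact absurd ((inf_le_right : zpowers a ⊓ H ≤ H) (heq.symm ▸ mem_zpowers a)) haH

/-- A non-identity element of a rank-two elementary abelian group together with another one
generates it. -/
theorem card_sup_zpowers (hA : IsElementaryAbelian q A) {a e : Γ} (ha : a ∈ A) (he : e ∈ A)
    (ha1 : a ≠ 1) (hnot : e ∉ zpowers a) : Nat.card ↥(zpowers a ⊔ zpowers e) = q ^ 2 := by
  have he1 : e ≠ 1 := fun h => hnot (h ▸ one_mem _)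
  have hn : zpowers e ≤ normalizer (zpowers a : Set Γ) := by
    refine le_trans ?_ (centralizer_le_normalizer _)
    rw [zpowers_le, centralizer_zpowers, mem_centralizer_singleton_iff]
    exact congrArg Subtype.val (hA.1.is_comm.comm ⟨e, he⟩ ⟨a, ha⟩)
  have hbot : zpowers a ⊓ zpowers e = ⊥ := by
    rw [inf_comm]
    exact zpowers_inf_eq_bot hA he he1 hnot
  have h := WielandtOrder.card_mul_set (zpowers a) (zpowers e)
  rw [hbot, Subgroup.card_bot, mul_one, Nat.card_zpowers, Nat.card_zpowers,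
    orderOf_eq_prime (hA.2 a ha) ha1, orderOf_eq_prime (hA.2 e he) he1, ← pow_two] at h
  rw [← h]
  exact Nat.card_congr (Equiv.setCongr (coe_mul_of_right_le_normalizer_left _ _ hn))

/-- A complement of order `q ^ 2` to a cyclic subgroup. -/
theorem exists_complement (hA : IsElementaryAbelian q A) (hAc : Nat.card A = q ^ 3) {a : Γ}
    (ha : a ∈ A) (ha1 : a ≠ 1) :
    ∃ E : Subgroup Γ, E ≤ A ∧ Nat.card E = q ^ 2 ∧ a ∉ E := by
  have hq := (Fact.out : q.Prime)
  obtain ⟨e, he, hea⟩ : ∃ e ∈ A, e ∉ zpowers a := by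
    by_contra h
    push Not at h
    have h1 := card_le_of_le (show A ≤ zpowers a from h)
    rw [hAc, Nat.card_zpowers, orderOf_eq_prime (hA.2 a ha) ha1] at h1
    nlinarith [Nat.pow_le_pow_right hq.pos (show 2 ≤ 3 by norm_num), hq.two_le]
  obtain ⟨f, hf, hfe⟩ : ∃ f ∈ A, f ∉ zpowers a ⊔ zpowers e := by
    by_contra h
    push Not at h
    have h1 := card_le_of_le (show A ≤ zpowers a ⊔ zpowers e from h)
    rw [hAc, card_sup_zpowers hA ha he ha1 hea] at h1
    exact absurd ((Nat.pow_le_pow_iff_right hq.one_lt).1 h1) (by norm_num)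
  have he1 : e ≠ 1 := fun h => hea (h ▸ one_mem _)
  have hfne : f ∉ zpowers e := fun h => hfe (Subgroup.mem_sup_right h)
  refine ⟨zpowers e ⊔ zpowers f, sup_le (zpowers_le.2 he) (zpowers_le.2 hf),
    card_sup_zpowers hA he hf he1 hfne, fun haE => hfe ?_⟩
  have hsub : zpowers a ⊔ zpowers e ≤ zpowers e ⊔ zpowers f :=
    sup_le (zpowers_le.2 haE) le_sup_left
  have heq := eq_of_le_of_card_ge hsub (by
    rw [card_sup_zpowers hA ha he ha1 hea, card_sup_zpowers hA he hf he1 hfne])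
  rw [heq]
  exact Subgroup.mem_sup_right (mem_zpowers f)

/-- Comparing the two order formulas. -/
theorem card_le_of_lines {B G₁ G₂ : Subgroup Γ} (hB : IsElementaryAbelian q B)
    (hBc : Nat.card B = q ^ 2) (h1 : B ≤ normalizer (G₁ : Set Γ)) (h2 : B ≤ normalizer (G₂ : Set Γ))
    (hle : G₂ ≤ G₁) (hcop : (Nat.card B).Coprime (Nat.card G₁)) (M : ℕ)
    (hM : ∀ D : Subgroup Γ, D ≤ B → Nat.card D = q →
      Nat.card ↥(G₁ ⊓ centralizer (D : Set Γ)) ≤ M * Nat.card ↥(G₂ ⊓ centralizer (D : Set Γ))) :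
    Nat.card G₁ ≤ M ^ (q + 1) * Nat.card G₂ := by
  classical
  have f1 := WielandtOrder.formula hB hBc G₁ h1 hcop
  have f2 := WielandtOrder.formula hB hBc G₂ h2 (hcop.coprime_dvd_right (card_dvd_of_le hle))
  refine Nat.le_of_mul_le_mul_right (c := Nat.card ↥(G₁ ⊓ centralizer (B : Set Γ)) ^ q) ?_
    (pow_pos Nat.card_pos _)
  calc _ = _ := f1
    _ ≤ ∏ D : WielandtOrder.lines q B,
          M * Nat.card ↥(G₂ ⊓ centralizer ((D : Subgroup Γ) : Set Γ)) :=
        Finset.prod_le_prod' fun D _ => hM D.1 D.2.1 D.2.2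
    _ = M ^ (q + 1) * (Nat.card G₂ * Nat.card ↥(G₂ ⊓ centralizer (B : Set Γ)) ^ q) := by
        rw [Finset.prod_mul_distrib, Finset.prod_const, Finset.card_univ,
          WielandtOrder.card_lines hB hBc, f2]
    _ ≤ _ := by
        rw [← mul_assoc]
        exact Nat.mul_le_mul le_rfl (Nat.pow_le_pow_left (card_le_of_le (inf_le_inf_right _ hle)) _)

theorem le_normalizer_centralizer {S : Subgroup Γ} (h : A ≤ normalizer (S : Set Γ)) :
    A ≤ normalizer (centralizer (S : Set Γ) : Set Γ) := by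
  intro a ha
  rw [mem_normalizer_iff]
  intro x
  have hconj : ∀ g ∈ normalizer (S : Set Γ), ∀ y ∈ centralizer (S : Set Γ),
      g * y * g⁻¹ ∈ centralizer (S : Set Γ) := by
    intro g hg y hy
    rw [mem_centralizer_iff] at hy ⊢
    intro s hs
    have hs' : g⁻¹ * s * g ∈ S := by
      simpa using (mem_normalizer_iff.1 (inv_mem hg) s).1 hs
    calc s * (g * y * g⁻¹) = g * ((g⁻¹ * s * g) * y) * g⁻¹ := by group
      _ = g * (y * (g⁻¹ * s * g)) * g⁻¹ := by rw [hy _ hs']
      _ = g * y * g⁻¹ * s := by group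
  refine ⟨hconj a (h ha) x, fun hx => ?_⟩
  have := hconj a⁻¹ (inv_mem (h ha)) _ hx
  simpa [mul_assoc] using this

theorem le_normalizer_centralizer_of_le (hA : IsElementaryAbelian q A) {S : Subgroup Γ}
    (hS : S ≤ A) : A ≤ normalizer (centralizer (S : Set Γ) : Set Γ) := by
  refine le_trans (fun a ha => ?_) le_normalizer
  rw [mem_centralizer_iff]
  exact fun s hs => congrArg Subtype.val (hA.1.is_comm.comm ⟨s, hS hs⟩ ⟨a, ha⟩)

theorem le_normalizer_inf {X Y : Subgroup Γ} (hX : A ≤ normalizer (X : Set Γ))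
    (hY : A ≤ normalizer (Y : Set Γ)) : A ≤ normalizer ((X ⊓ Y : Subgroup Γ) : Set Γ) :=
  (le_inf hX hY).trans inf_normalizer_le_normalizer_inf

theorem le_normalizer_commutator {X : Subgroup Γ} (hX : A ≤ normalizer (X : Set Γ)) :
    A ≤ normalizer ((⁅X, X⁆ : Subgroup Γ) : Set Γ) := fun a ha => by
  rw [mem_normalizer_iff_map_conj_eq, map_commutator, mem_normalizer_iff_map_conj_eq.1 (hX ha)]

/-- The cardinality of a commutative-modulo-`N` supremum. -/
theorem card_sup_finset_le {D N : Subgroup Γ} (hN : ⁅D, D⁆ ≤ N) (hND : N ≤ D)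
    (S : Γ → Subgroup Γ) (s : Finset Γ) (hS : ∀ a ∈ s, S a ≤ D) (hm : ∀ a ∈ s, Nat.card (S a) ≤ m) :
    Nat.card ↥(N ⊔ s.sup S) ≤ Nat.card N * m ^ s.card := by
  classical
  induction s using Finset.induction_on with
  | empty => simp
  | insert a s ha ih =>
    have hsD : s.sup S ≤ D := Finset.sup_le fun b hb => hS b (Finset.mem_insert_of_mem hb)
    have hn : S a ≤ normalizer ((N ⊔ s.sup S : Subgroup Γ) : Set Γ) := by
      intro g hg
      have hgD : g ∈ D := hS a (Finset.mem_insert_self _ _) hg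
      rw [mem_normalizer_iff]
      intro x
      have key : ∀ g ∈ D, ∀ x ∈ N ⊔ s.sup S, g * x * g⁻¹ ∈ N ⊔ s.sup S := by
        intro g hg x hx
        have h1 : ⁅g, x⁆ ∈ N ⊔ s.sup S := Subgroup.mem_sup_left
          (hN (commutator_mem_commutator hg (sup_le hND hsD hx)))
        have h2 := mul_mem h1 hx
        rwa [commutatorElement_def, inv_mul_cancel_right] at h2
      refine ⟨key g hgD x, fun h => ?_⟩
      simpa [mul_assoc] using key g⁻¹ (inv_mem hgD) _ h
    rw [Finset.sup_insert, sup_comm (S a), ← sup_assoc, Finset.card_insert_of_notMem ha, pow_succ,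
      ← mul_assoc]
    have h3 := WielandtOrder.card_mul_set (N ⊔ s.sup S) (S a)
    have h4 : Nat.card ↥(N ⊔ s.sup S ⊔ S a) =
        Nat.card ↥(((N ⊔ s.sup S : Subgroup Γ) : Set Γ) * (S a : Set Γ)) :=
      Nat.card_congr (Equiv.setCongr (coe_mul_of_right_le_normalizer_left _ _ hn))
    rw [h4]
    refine (Nat.le_mul_of_pos_right _ Nat.card_pos).trans (h3.le.trans ?_)
    exact Nat.mul_le_mul (ih (fun b hb => hS b (Finset.mem_insert_of_mem hb))
      fun b hb => hm b (Finset.mem_insert_of_mem hb)) (hm a (Finset.mem_insert_self _ _))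

/-- A bound on the derived subgroup of a group whose centre has index at most `N`. -/
theorem card_commutator_le_of_index {D : Type*} [Group D] [Finite D] {N : ℕ}
    (h : (center D).index ≤ N) :
    Nat.card (_root_.commutator D) ≤
      ∑ i ∈ Finset.range (N * N + 1), cardCommutatorBound i := by
  classical
  refine (card_commutator_le_of_finite_commutatorSet D).trans
    (Finset.single_le_sum (f := cardCommutatorBound) (fun i _ => Nat.zero_le _) ?_)
  rw [Finset.mem_range, Nat.lt_succ_iff]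
  refine le_trans ?_ (Nat.mul_le_mul h h)
  rw [index, ← Nat.card_prod]
  let F : (D ⧸ center D) × (D ⧸ center D) → commutatorSet D := fun x =>
    ⟨⁅x.1.out, x.2.out⁆, commutator_mem_commutatorSet _ _⟩
  refine Nat.card_le_card_of_surjective F ?_
  rintro ⟨_, g, k, rfl⟩
  refine ⟨((g : D ⧸ center D), (k : D ⧸ center D)), Subtype.ext ?_⟩
  obtain ⟨z, hz⟩ := QuotientGroup.mk_out_eq_mul (center D) g
  obtain ⟨w, hw⟩ := QuotientGroup.mk_out_eq_mul (center D) k
  show ⁅(g : D ⧸ center D).out, (k : D ⧸ center D).out⁆ = ⁅g, k⁆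
  rw [hz, hw, commutatorElement_def, commutatorElement_def]
  have hz' : ∀ x : D, (z : D) * x = x * (z : D) := fun x => (mem_center_iff.1 z.2 x).symm
  have hw' : ∀ x : D, (w : D) * x = x * (w : D) := fun x => (mem_center_iff.1 w.2 x).symm
  calc g * z * (k * w) * (g * z)⁻¹ * (k * w)⁻¹
      = g * z * k * w * (z : D)⁻¹ * g⁻¹ * (w : D)⁻¹ * k⁻¹ := by group
    _ = g * (z * k) * w * (z : D)⁻¹ * g⁻¹ * (w : D)⁻¹ * k⁻¹ := by group
    _ = g * (k * z) * w * (z : D)⁻¹ * g⁻¹ * (w : D)⁻¹ * k⁻¹ := by rw [hz' k]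
    _ = g * k * (z * w) * (z : D)⁻¹ * g⁻¹ * (w : D)⁻¹ * k⁻¹ := by group
    _ = g * k * (w * z) * (z : D)⁻¹ * g⁻¹ * (w : D)⁻¹ * k⁻¹ := by rw [hz' w]
    _ = g * k * (w * g⁻¹) * (w : D)⁻¹ * k⁻¹ := by group
    _ = g * k * (g⁻¹ * w) * (w : D)⁻¹ * k⁻¹ := by rw [hw' g⁻¹]
    _ = g * k * g⁻¹ * k⁻¹ := by group

/-- The bound on `[K : C_K(G')]`. -/
def indexBound (q m : ℕ) : ℕ := (((q ^ 3 * m) ^ (q ^ 3 * m)) ^ (q + 1)) ^ (q + 1)

/-- The bound on the derived subgroup. -/
def bound (q m : ℕ) : ℕ :=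
  (∑ i ∈ Finset.range (indexBound q m * indexBound q m + 1), cardCommutatorBound i) * m ^ (q ^ 3)

theorem main (hA : IsElementaryAbelian q A) (hAc : Nat.card A = q ^ 3)
    (hAK : A ≤ normalizer (K : Set Γ)) (hcop : (Nat.card A).Coprime (Nat.card K))
    (hm : ∀ a ∈ A, a ≠ 1 → Nat.card (der K a) ≤ m) :
    Nat.card (⁅K, K⁆ : Subgroup Γ) ≤ bound q m := by
  classical
  haveI : Fintype Γ := Fintype.ofFinite Γ
  have hq := (Fact.out : q.Prime)
  haveI : IsMulCommutative A := hA.1
  have hcopB : ∀ B : Subgroup Γ, B ≤ A → ∀ L : Subgroup Γ, L ≤ K →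
      (Nat.card B).Coprime (Nat.card L) := fun B hB L hL =>
    (hcop.coprime_dvd_left (card_dvd_of_le hB)).coprime_dvd_right (card_dvd_of_le hL)
  set sA : Finset Γ := (Finset.univ.filter fun a => a ∈ A).erase 1 with hsA
  have hmemA : ∀ a, a ∈ sA ↔ a ∈ A ∧ a ≠ 1 := fun a => by simp [hsA, and_comm]
  have hsAc : sA.card ≤ q ^ 3 := by
    refine le_trans (Finset.card_erase_le) (le_of_eq ?_)
    rw [← Fintype.card_subtype, ← Nat.card_eq_fintype_card]
    exact hAc
  set D : Subgroup Γ := sA.sup (der K) with hD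
  have hderD : ∀ a ∈ A, a ≠ 1 → der K a ≤ D := fun a ha h1 =>
    Finset.le_sup ((hmemA a).2 ⟨ha, h1⟩)
  have hDK : D ≤ K := Finset.sup_le fun a _ => (der_le K a).trans inf_le_left
  -- `K` is generated by the centralisers of the subgroups of order `q ^ 2`
  have hgen : ∀ (a : Γ) (L : Subgroup Γ), a ∈ A → a ≠ 1 → L ≤ K ⊓ centralizer {a} →
      A ≤ normalizer (L : Set Γ) → ∀ X : Subgroup Γ,
      (∀ B : Subgroup Γ, B ≤ A → Nat.card B = q ^ 2 → L ⊓ centralizer (B : Set Γ) ≤ X) → L ≤ X := by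
    intro a L ha ha1 hLK hLn X hX
    obtain ⟨E, hEA, hEc, haE⟩ := exists_complement hA hAc ha ha1
    have hEe := elementary_of_le hA hEA
    haveI : IsMulCommutative E := hEe.1
    have hEn : ¬ IsCyclic E := by
      intro hcyc
      obtain ⟨g, hg⟩ := hcyc.exists_generator
      have h1 : orderOf g = q ^ 2 := by rw [orderOf_eq_card_of_forall_mem_zpowers hg, hEc]
      have h2 : orderOf g ∣ q := orderOf_dvd_of_pow_eq_one (Subtype.ext (hEe.2 g g.2))
      rw [h1] at h2
      have h3 := Nat.le_of_dvd hq.pos h2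
      nlinarith [hq.two_le]
    refine le_trans (CoprimeAct.generated_by_centralizers hEn (hEA.trans hLn)
      (hcopB E hEA L (hLK.trans inf_le_left))).ge (iSup₂_le fun e he => ?_)
    intro x hx
    have hne : e ∉ zpowers a := fun h => by
      obtain ⟨k, hk⟩ := mem_zpowers_iff.1 h
      have hbot : zpowers a ⊓ E = ⊥ := zpowers_inf_eq_bot hA ha ha1 haE
      exact he.2 ((eq_bot_iff_forall _).1 hbot e ⟨h, he.1⟩)
    refine hX _ (sup_le (zpowers_le.2 ha) (zpowers_le.2 (hEA he.1)))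
      (card_sup_zpowers hA ha (hEA he.1) ha1 hne) ⟨hx.1, ?_⟩
    have hle : zpowers a ⊔ zpowers e ≤ centralizer ({x} : Set Γ) := by
      refine sup_le (zpowers_le.2 ?_) (zpowers_le.2 ?_)
      · exact mem_centralizer_singleton_iff.2 (mem_centralizer_singleton_iff.1 (hLK hx.1).2).symm
      · exact mem_centralizer_singleton_iff.2 (mem_centralizer_singleton_iff.1 hx.2).symm
    exact mem_centralizer_iff.2 fun y hy => mem_centralizer_singleton_iff.1 (hle hy)
  have hAC : ∀ a ∈ A, A ≤ normalizer ((K ⊓ centralizer {a} : Subgroup Γ) : Set Γ) := fun a ha => by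
    refine le_normalizer_inf hAK ?_
    have := le_normalizer_centralizer_of_le hA (zpowers_le.2 ha)
    rwa [centralizer_zpowers] at this
  -- the small generators of `D`
  set S : Set Γ := {d | ∃ a ∈ A, a ≠ 1 ∧ d ∈ der K a ∧
    ∃ B : Subgroup Γ, B ≤ A ∧ Nat.card B = q ^ 2 ∧ d ∈ centralizer (B : Set Γ)} with hS
  have hSgen : D ≤ closure S := Finset.sup_le fun a ha => by
    obtain ⟨ha, ha1⟩ := (hmemA a).1 ha
    refine hgen a _ ha ha1 (der_le K a) (le_normalizer_commutator (hAC a ha)) _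
      fun B hB hBc x hx => subset_closure ⟨a, ha, ha1, hx.1, B, hB, hBc, hx.2⟩
  have hclD : closure S ≤ D := (closure_le _).2 fun d ⟨a, ha, ha1, hd, _⟩ => hderD a ha ha1 hd
  have hconj : ∀ B : Subgroup Γ, B ≤ A → Nat.card B = q ^ 2 →
      ∀ y ∈ K ⊓ centralizer (B : Set Γ), ∀ d ∈ S, ∃ b ∈ A, b ≠ 1 ∧ ⁅y, d⁆ ∈ der K b := by
    intro B hB hBc y hy d ⟨a, ha, ha1, hd, B', hB', hB'c, hdB'⟩
    obtain ⟨b, hbA, hb1, hbB, hbB'⟩ := exists_common hAc hB hB' hBc hB'c
    exact ⟨b, hbA, hb1, commutator_mem_der hy.1 (der_le K a hd).1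
      (mem_centralizer_iff.1 hy.2 b hbB) (mem_centralizer_iff.1 hdB' b hbB')⟩
  -- `K` normalises `D`
  have hKgen : ∀ X : Subgroup Γ, (∀ B : Subgroup Γ, B ≤ A → Nat.card B = q ^ 2 →
      K ⊓ centralizer (B : Set Γ) ≤ X) → K ≤ X := by
    intro X hX
    have hAn : ¬ IsCyclic A := by
      intro hcyc
      obtain ⟨g, hg⟩ := hcyc.exists_generator
      have h1 : orderOf g = q ^ 3 := by rw [orderOf_eq_card_of_forall_mem_zpowers hg, hAc]
      have h2 : orderOf g ∣ q := orderOf_dvd_of_pow_eq_one (Subtype.ext (hA.2 g g.2))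
      rw [h1] at h2
      have h3 := Nat.le_of_dvd hq.pos h2
      nlinarith [hq.two_le, Nat.pow_le_pow_right hq.pos (show 2 ≤ 3 by norm_num)]
    refine le_trans (CoprimeAct.generated_by_centralizers hAn hAK hcop).ge
      (iSup₂_le fun a ha => ?_)
    exact hgen a _ ha.1 ha.2 le_rfl (hAC a ha.1) X fun B hB hBc =>
      le_trans (inf_le_inf_right _ inf_le_left) (hX B hB hBc)
  have hKN : K ≤ normalizer (D : Set Γ) := by
    refine hKgen _ fun B hB hBc y hy => ?_
    have hle : ∀ y ∈ K ⊓ centralizer (B : Set Γ), ∀ x ∈ D, y * x * y⁻¹ ∈ D := by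
      intro y hy x hx
      have hmap : (closure S).map (MulAut.conj y).toMonoidHom ≤ D := by
        rw [MonoidHom.map_closure, closure_le]
        rintro _ ⟨d, hd, rfl⟩
        obtain ⟨b, hb, hb1, hc⟩ := hconj B hB hBc y hy d hd
        show y * d * y⁻¹ ∈ D
        have := mul_mem (hderD b hb hb1 hc) (hclD (subset_closure hd))
        rwa [commutatorElement_def, inv_mul_cancel_right] at this
      exact hmap ⟨x, hSgen hx, rfl⟩
    rw [mem_normalizer_iff]
    exact fun x => ⟨hle y hy x, fun h => by simpa [mul_assoc] using hle y⁻¹ (inv_mem hy) _ h⟩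
  -- `K' ≤ D`
  have hcomm : ⁅K, K⁆ ≤ D := by
    haveI : (D.subgroupOf K).Normal := normal_subgroupOf_of_le_normalizer hKN
    let f := QuotientGroup.mk' (D.subgroupOf K)
    have key : ∀ x y : Γ, ∀ hx : x ∈ K, ∀ hy : y ∈ K, ⁅x, y⁆ ∈ D →
        f ⟨x, hx⟩ * f ⟨y, hy⟩ = f ⟨y, hy⟩ * f ⟨x, hx⟩ := fun x y hx hy h => by
      rw [← commutatorElement_eq_one_iff_mul_comm, ← map_commutatorElement]
      exact (QuotientGroup.eq_one_iff _).2 (by simpa [mem_subgroupOf, commutatorElement_def] using h)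
    have h1 : ∀ B : Subgroup Γ, B ≤ A → Nat.card B = q ^ 2 → ∀ y, ∀ hy : y ∈ K ⊓ centralizer (B : Set Γ),
        f ⟨y, hy.1⟩ ∈ center (↥K ⧸ D.subgroupOf K) := by
      intro B hB hBc y hy
      have hsub : K ≤ ((centralizer {f ⟨y, hy.1⟩}).comap f).map K.subtype := by
        refine hKgen _ fun B' hB' hB'c z hz => ⟨⟨z, hz.1⟩, ?_, rfl⟩
        obtain ⟨b, hbA, hb1, hbB, hbB'⟩ := exists_common hAc hB hB' hBc hB'c
        show f ⟨z, hz.1⟩ ∈ centralizer {f ⟨y, hy.1⟩}
        exact mem_centralizer_singleton_iff.2 (key _ _ hz.1 hy.1 (hderD b hbA hb1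
          (commutator_mem_der hz.1 hy.1 (mem_centralizer_iff.1 hz.2 b hbB')
            (mem_centralizer_iff.1 hy.2 b hbB))))
      rw [mem_center_iff]
      intro g
      obtain ⟨⟨g, hg⟩, rfl⟩ := QuotientGroup.mk'_surjective _ g
      obtain ⟨w, hw, hwg⟩ := hsub hg
      have : w = ⟨g, hg⟩ := Subtype.ext hwg
      exact this ▸ mem_centralizer_singleton_iff.1 hw
    have hsub : K ≤ ((center (↥K ⧸ D.subgroupOf K)).comap f).map K.subtype :=
      hKgen _ fun B hB hBc y hy => ⟨⟨y, hy.1⟩, h1 B hB hBc y hy, rfl⟩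
    rw [commutator_le]
    intro x hx y hy
    obtain ⟨w, hw, hwx⟩ := hsub hx
    have h2 := (mem_center_iff.1 hw (f ⟨y, hy⟩)).symm
    rw [show w = ⟨x, hx⟩ from Subtype.ext hwx, ← commutatorElement_eq_one_iff_mul_comm,
      ← map_commutatorElement] at h2
    simpa [mem_subgroupOf, commutatorElement_def] using (QuotientGroup.eq_one_iff _).1 h2
  -- `[K : C_K(D)]` is bounded
  set T : Finset Γ := sA.biUnion fun a => Finset.univ.filter fun x => x ∈ der K a with hT
  have hTc : T.card ≤ q ^ 3 * m := by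
    refine (Finset.card_biUnion_le_card_mul _ _ m fun a ha => ?_).trans
      (Nat.mul_le_mul_right m hsAc)
    obtain ⟨ha, ha1⟩ := (hmemA a).1 ha
    rw [← Fintype.card_subtype, ← Nat.card_eq_fintype_card]
    exact hm a ha ha1
  have hTmem : ∀ x, ∀ a ∈ A, a ≠ 1 → x ∈ der K a → x ∈ T := fun x a ha ha1 hx => by
    simp only [hT, Finset.mem_biUnion, Finset.mem_filter, Finset.mem_univ, true_and]
    exact ⟨a, (hmemA a).2 ⟨ha, ha1⟩, hx⟩
  have hsmall : ∀ B : Subgroup Γ, B ≤ A → Nat.card B = q ^ 2 →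
      Nat.card ↥(K ⊓ centralizer (B : Set Γ)) ≤ (q ^ 3 * m) ^ (q ^ 3 * m) *
        Nat.card ↥(K ⊓ centralizer (B : Set Γ) ⊓ centralizer (D : Set Γ)) := by
    intro B hB hBc
    set C := K ⊓ centralizer (B : Set Γ)
    set H := C ⊓ centralizer (D : Set Γ)
    have hHC : H ≤ C := inf_le_left
    rw [← (H.subgroupOf C).card_mul_index,
      Nat.card_congr (subgroupOfEquivOfLe hHC).toEquiv, mul_comm _ (Nat.card H)]
    refine Nat.mul_le_mul_left _ ?_
    have hT1 : (1 : Γ) ∈ T := by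
      obtain ⟨b, hbA, hb1, -⟩ := exists_common hAc hB hB hBc hBc
      exact hTmem 1 b hbA hb1 (one_mem _)
    have hST : ∀ d ∈ S, d ∈ T := fun d ⟨a, ha, ha1, hd, _⟩ => hTmem d a ha ha1 hd
    -- the cosets of `H` are determined by the conjugates of the generators
    let F : ↥C ⧸ H.subgroupOf C → ({x // x ∈ T} → {x // x ∈ T}) := fun c d =>
      if h : ⁅((c.out : C) : Γ), d.1⁆ ∈ T then ⟨_, h⟩ else ⟨1, hT1⟩
    have hinj : Function.Injective F := by
      intro c c' h
      rw [← QuotientGroup.out_eq' c, ← QuotientGroup.out_eq' c', QuotientGroup.eq]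
      refine ⟨(c.out⁻¹ * c'.out).2, ?_⟩
      set y : Γ := ((c.out : C) : Γ)
      set y' : Γ := ((c'.out : C) : Γ)
      show y⁻¹ * y' ∈ centralizer (D : Set Γ)
      have hle : D ≤ centralizer ({y⁻¹ * y'} : Set Γ) := by
        refine hSgen.trans ((closure_le _).2 fun d hd => mem_centralizer_singleton_iff.2 ?_)
        obtain ⟨b, hb, hb1, hbd⟩ := hconj B hB hBc y c.out.2 d hd
        obtain ⟨b', hb', hb'1, hbd'⟩ := hconj B hB hBc y' c'.out.2 d hd
        have h2 := congrArg Subtype.val (congrFun h ⟨d, hST d hd⟩)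
        simp only [F] at h2
        rw [dif_pos (hTmem _ b hb hb1 hbd), dif_pos (hTmem _ b' hb' hb'1 hbd')] at h2
        replace h2 : y * d * y⁻¹ = y' * d * y'⁻¹ := by
          have h3 : ⁅y, d⁆ = ⁅y', d⁆ := h2
          rwa [commutatorElement_def, commutatorElement_def, mul_left_inj] at h3
        calc d * (y⁻¹ * y') = y⁻¹ * (y * d * y⁻¹) * y' := by group
          _ = y⁻¹ * (y' * d * y'⁻¹) * y' := congrArg (fun z : Γ => y⁻¹ * z * y') h2
          _ = y⁻¹ * y' * d := by group
      exact mem_centralizer_iff.2 fun x hx => mem_centralizer_singleton_iff.1 (hle hx)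
    refine (Nat.card_le_card_of_injective F hinj).trans ?_
    rw [Nat.card_fun, Nat.card_eq_fintype_card, Fintype.card_coe]
    exact (Nat.pow_le_pow_left hTc _).trans
      (Nat.pow_le_pow_right (lt_of_lt_of_le (Finset.card_pos.2 ⟨1, hT1⟩) hTc) hTc)
  have hDA : A ≤ normalizer (D : Set Γ) := by
    intro g hg
    rw [mem_normalizer_iff_map_conj_eq]
    refine eq_of_le_of_card_ge ?_ (card_map_of_injective (MulAut.conj g).injective).ge
    rw [hD, map_le_iff_le_comap]
    refine Finset.sup_le fun a ha => ?_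
    rw [← map_le_iff_le_comap]
    obtain ⟨haA, ha1⟩ := (hmemA a).1 ha
    have h5 := le_normalizer_commutator (hAC a haA) hg
    rw [mem_normalizer_iff_map_conj_eq] at h5
    exact (le_of_eq h5).trans (Finset.le_sup (f := der K) ha)
  set Kc := K ⊓ centralizer (D : Set Γ)
  have hKcA : A ≤ normalizer (Kc : Set Γ) := le_normalizer_inf hAK (le_normalizer_centralizer hDA)
  have hstep : ∀ L : Subgroup Γ, L ≤ A → Nat.card L = q →
      Nat.card ↥(K ⊓ centralizer (L : Set Γ)) ≤ ((q ^ 3 * m) ^ (q ^ 3 * m)) ^ (q + 1) *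
        Nat.card ↥(Kc ⊓ centralizer (L : Set Γ)) := by
    intro L hL hLc
    obtain ⟨a, haL, ha1⟩ : ∃ a ∈ L, a ≠ 1 := by
      by_contra h
      push Not at h
      have hb : L = ⊥ := (eq_bot_iff_forall L).2 h
      rw [hb, Subgroup.card_bot] at hLc
      exact hq.one_lt.ne hLc
    obtain ⟨E, hEA, hEc, haE⟩ := exists_complement hA hAc (hL haL) ha1
    have hn1 := le_normalizer_inf hAK (le_normalizer_centralizer_of_le hA hL)
    have hn2 := le_normalizer_inf hKcA (le_normalizer_centralizer_of_le hA hL)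
    refine card_le_of_lines (elementary_of_le hA hEA) hEc (hEA.trans hn1) (hEA.trans hn2)
      (inf_le_inf_right _ inf_le_left) (hcopB E hEA _ inf_le_left) _ fun L' hL' hL'c => ?_
    obtain ⟨e, heL', he1⟩ : ∃ e ∈ L', e ≠ 1 := by
      by_contra h
      push Not at h
      have hb : L' = ⊥ := (eq_bot_iff_forall L').2 h
      rw [hb, Subgroup.card_bot] at hL'c
      exact hq.one_lt.ne hL'c
    have hLa : L = zpowers a := (eq_of_le_of_card_ge (zpowers_le.2 haL) (by
      rw [Nat.card_zpowers, orderOf_eq_prime (hA.2 a (hL haL)) ha1, hLc])).symm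
    have heA : e ∈ A := hEA (hL' heL')
    have hLe : L' = zpowers e := (eq_of_le_of_card_ge (zpowers_le.2 heL') (by
      rw [Nat.card_zpowers, orderOf_eq_prime (hA.2 e heA) he1, hL'c])).symm
    have hne : e ∉ zpowers a := by
      intro h
      refine haE (hL' ?_)
      have : zpowers e = zpowers a := eq_of_le_of_card_ge (zpowers_le.2 h) (by
        rw [Nat.card_zpowers, Nat.card_zpowers, orderOf_eq_prime (hA.2 a (hL haL)) ha1,
          orderOf_eq_prime (hA.2 e heA) he1])
      rw [hLe, this]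
      exact mem_zpowers a
    have h := hsmall _ (sup_le hL ((hL'.trans hEA))) (by
      rw [hLa, hLe]; exact card_sup_zpowers hA (hL haL) heA ha1 hne)
    have hcent : centralizer ((L ⊔ L' : Subgroup Γ) : Set Γ) =
        centralizer (L : Set Γ) ⊓ centralizer (L' : Set Γ) := by
      refine le_antisymm (le_inf (centralizer_le (SetLike.coe_subset_coe.2 le_sup_left)) (centralizer_le (SetLike.coe_subset_coe.2 le_sup_right)))
        fun x hx => ?_
      have hle : L ⊔ L' ≤ centralizer ({x} : Set Γ) := sup_le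
        (fun y hy => mem_centralizer_singleton_iff.2 (mem_centralizer_iff.1 hx.1 y hy))
        (fun y hy => mem_centralizer_singleton_iff.2 (mem_centralizer_iff.1 hx.2 y hy))
      exact mem_centralizer_iff.2 fun y hy => mem_centralizer_singleton_iff.1 (hle hy)
    rw [hcent] at h
    refine le_of_eq_of_le (by rw [inf_assoc]) (h.trans (Nat.mul_le_mul_left _ (le_of_eq ?_)))
    exact congrArg (fun X : Subgroup Γ => Nat.card X)
      (show _ = Kc ⊓ centralizer (L : Set Γ) ⊓ centralizer (L' : Set Γ) by simp only [Kc]; ac_rfl)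
  obtain ⟨B, hBA, hBc⟩ : ∃ B : Subgroup Γ, B ≤ A ∧ Nat.card B = q ^ 2 := by
    obtain ⟨a, ha, ha1⟩ : ∃ a ∈ A, a ≠ 1 := by
      by_contra h
      push Not at h
      rw [(eq_bot_iff_forall A).2 h, Subgroup.card_bot] at hAc
      exact (Nat.one_lt_pow (by norm_num) hq.one_lt).ne hAc
    obtain ⟨E, h1, h2, -⟩ := exists_complement hA hAc ha ha1
    exact ⟨E, h1, h2⟩
  have hidx : Nat.card K ≤ indexBound q m * Nat.card Kc :=
    card_le_of_lines (elementary_of_le hA hBA) hBc (hBA.trans hAK) (hBA.trans hKcA) inf_le_left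
      (hcopB B hBA K le_rfl) _ fun L hL hLc => hstep L (hL.trans hBA) hLc
  -- the derived subgroup of `D`
  have hDc : (center ↥D).index ≤ indexBound q m := by
    have h1 : Kc.relIndex K ≤ indexBound q m := by
      refine Nat.le_of_mul_le_mul_right (c := Nat.card Kc) ?_ Nat.card_pos
      calc Kc.relIndex K * Nat.card Kc = Nat.card K := by
            rw [relIndex, mul_comm, ← Nat.card_congr (subgroupOfEquivOfLe (inf_le_left : Kc ≤ K)).toEquiv,
              card_mul_index]
        _ ≤ _ := hidx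
    refine le_trans ?_ h1
    refine le_trans (le_of_eq ?_) (relIndex_le_of_le_right hDK (index_ne_zero_of_finite))
    rw [relIndex]
    congr 1
    ext x
    rw [mem_center_iff]
    refine ⟨fun h => ⟨hDK x.2, mem_centralizer_iff.2 fun y hy => ?_⟩, fun h y => ?_⟩
    · exact congrArg Subtype.val (h ⟨y, hy⟩)
    · exact Subtype.ext (mem_centralizer_iff.1 h.2 y.1 y.2)
  have hD' := card_commutator_le_of_index hDc
  have hmapD : (_root_.commutator ↥D).map D.subtype = ⁅D, D⁆ := map_subtype_commutator D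
  have hD'c : Nat.card (⁅D, D⁆ : Subgroup Γ) ≤
      ∑ i ∈ Finset.range (indexBound q m * indexBound q m + 1), cardCommutatorBound i := by
    rw [← hmapD, card_map_of_injective D.subtype_injective]
    exact hD'
  have hle' : ⁅D, D⁆ ≤ D := by
    rw [← hmapD]
    exact map_subtype_le _
  refine (card_le_of_le hcomm).trans ?_
  refine (card_le_of_le (show D ≤ ⁅D, D⁆ ⊔ sA.sup (der K) from le_sup_right)).trans ?_
  refine (card_sup_finset_le (m := m) le_rfl hle' (der K) sA (fun a ha => Finset.le_sup ha)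
    fun a ha => hm a ((hmemA a).1 ha).1 ((hmemA a).1 ha).2).trans ?_
  unfold bound
  refine Nat.mul_le_mul hD'c ?_
  rcases Nat.eq_zero_or_pos m with hm0 | hm0
  · exfalso
    obtain ⟨b, hbA, hb1, -⟩ := exists_common hAc hBA hBA hBc hBc
    have := hm b hbA hb1
    rw [hm0, Nat.le_zero] at this
    exact Nat.card_pos.ne' this
  · exact Nat.pow_le_pow_right hm0 hsAc

end Cfsg.Agent.RankThreeDerived
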